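import Groth.Prelude.Def_W4c5flasquetoriphsGLat
import Mathlib

open GLat

namespace Groth.Agent.GLat52

variable {G : Type} [Group G] [Finite G]

section Proj

variable {M : Type} [AddCommGroup M] [Module.Finite ℤ M] [Module.Free ℤ M]

/-- A saturated subgroup of a lattice is a direct summand. -/
theorem exists_proj (N : Submodule ℤ M) (h : ∀ (k : ℤ) (x : M), k ≠ 0 → k • x ∈ N → x ∈ N) :
    ∃ r : M →ₗ[ℤ] M, (∀ x, r x ∈ N) ∧ ∀ x ∈ N, r x = x := by
  haveI : Module.IsTorsionFree ℤ (M ⧸ N) := by
    refine Module.isTorsionFree_iff_smul_eq_zero.2 fun k q hk => ?_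
    obtain ⟨x, rfl⟩ := Submodule.Quotient.mk_surjective N q
    rw [← Submodule.Quotient.mk_smul, Submodule.Quotient.mk_eq_zero] at hk
    by_cases hk0 : k = 0
    · exact Or.inl hk0
    · exact Or.inr ((Submodule.Quotient.mk_eq_zero N).2 (h k x hk0 hk))
  haveI : Module.Free ℤ (M ⧸ N) := Module.free_of_finite_type_torsion_free'
  obtain ⟨s, hs⟩ := Module.projective_lifting_property N.mkQ LinearMap.id N.mkQ_surjective
  refine ⟨LinearMap.id - s ∘ₗ N.mkQ, fun x => ?_, fun x hx => ?_⟩
  · refine (Submodule.Quotient.mk_eq_zero N).1 ?_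
    have := LinearMap.congr_fun hs (N.mkQ x)
    simp only [LinearMap.comp_apply, LinearMap.id_apply] at this
    show N.mkQ (x - s (N.mkQ x)) = 0
    rw [map_sub, this, sub_self]
  · have : N.mkQ x = 0 := (Submodule.Quotient.mk_eq_zero N).2 hx
    show x - s (N.mkQ x) = x
    rw [this, map_zero, sub_zero]

end Proj

section Permutation

variable {M : Type} [AddCommGroup M] {ρ : Representation ℤ G M}

/-- A permutation lattice has a finite set of coordinates moved by the group. -/
theorem exists_action [Module.Finite ℤ M] (h : IsPermutation ρ) :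
    ∃ (ι : Type) (_ : Fintype ι) (_ : MulAction G ι) (b : Module.Basis ι ℤ M),
      ∀ (g : G) (x : M) (i : ι), b.repr (ρ g x) i = b.repr x (g⁻¹ • i) := by
  classical
  obtain ⟨ι, b, hb⟩ := h
  choose act hact using hb
  haveI : Finite ι := Module.Finite.finite_basis b
  haveI : Fintype ι := Fintype.ofFinite ι
  letI : MulAction G ι :=
    { smul := act
      one_smul := fun i => b.injective (by
        show b (act 1 i) = b i
        rw [← hact, map_one]; rfl)
      mul_smul := fun g g' i => b.injective (by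
        show b (act (g * g') i) = b (act g (act g' i))
        rw [← hact, ← hact, ← hact, map_mul]; rfl) }
  refine ⟨ι, inferInstance, inferInstance, b, fun g x i => ?_⟩
  have hlin : (Finsupp.lapply i : (ι →₀ ℤ) →ₗ[ℤ] ℤ) ∘ₗ b.repr.toLinearMap ∘ₗ ρ g =
      (Finsupp.lapply (g⁻¹ • i)) ∘ₗ b.repr.toLinearMap := by
    refine b.ext fun j => ?_
    simp only [LinearMap.comp_apply, LinearEquiv.coe_coe, Finsupp.lapply_apply, hact, Module.Basis.repr_self]
    show Finsupp.single (g • j) 1 i = Finsupp.single j 1 (g⁻¹ • i)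
    rw [Finsupp.single_apply, Finsupp.single_apply]
    exact if_congr eq_inv_smul_iff.symm rfl rfl
  exact LinearMap.congr_fun hlin x

variable [Module.Finite ℤ M]

/-- Permutation lattices are coflasque. -/
theorem coflasque_of_permutation (h : IsPermutation ρ) : IsCoflasque ρ := by
  classical
  obtain ⟨ι, _, _, b, hb⟩ := exists_action h
  intro H f hf
  let c : H → ι → ℤ := fun a x => b.repr (f a) x
  have hc : ∀ (a a' : H) (x : ι), c (a * a') x = c a x + c a' (a⁻¹ • x) := by
    intro a a' x
    show b.repr (f (a * a')) x = _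
    rw [hf, map_add, Finsupp.add_apply, hb]
    rfl
  have hstab : ∀ (s : H) (r : ι), s • r = r → c s r = 0 := by
    intro s r hs
    have hpow : ∀ n : ℕ, c (s ^ n) r = (n : ℤ) * c s r := by
      intro n
      induction n with
      | zero =>
        have := hc 1 1 r
        simp only [mul_one, inv_one, one_smul] at this
        simp only [pow_zero, Nat.cast_zero, zero_mul]
        omega
      | succ n ih =>
        have hfix : (s ^ n)⁻¹ • r = r :=
          Subgroup.inv_mem (MulAction.stabilizer H r) (Subgroup.pow_mem _ hs n)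
        rw [pow_succ, hc, hfix, ih]
        push_cast; ring
    have hn := hpow (orderOf s)
    rw [pow_orderOf_eq_one] at hn
    have h0 := hpow 0
    simp only [pow_zero, Nat.cast_zero, zero_mul] at h0
    rw [h0] at hn
    rcases mul_eq_zero.1 hn.symm with h' | h'
    · exact absurd (Nat.cast_eq_zero.1 h') (orderOf_pos s).ne'
    · exact h'
  let r : ι → ι := fun x => (Quotient.mk'' x : MulAction.orbitRel.Quotient H ι).out
  have hr : ∀ x, ∃ t : H, t • r x = x := fun x => by
    have : (MulAction.orbitRel H ι) x (r x) := Quotient.exact (Quotient.out_eq _).symm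
    exact this
  choose t ht using hr
  have hrH : ∀ (a : H) (x : ι), r (a • x) = r x := fun a x =>
    congrArg Quotient.out (Quotient.sound (MulAction.mem_orbit x a) :
      (Quotient.mk'' (a • x) : MulAction.orbitRel.Quotient H ι) = Quotient.mk'' x)
  refine ⟨∑ x, (-c (t x) x) • b x, fun a => b.repr.injective ?_⟩
  ext x
  rw [map_sub, Finsupp.sub_apply, hb, b.repr_sum_self]
  show c a x = -c (t ((a : G)⁻¹ • x)) ((a : G)⁻¹ • x) - -c (t x) x
  have hy : (a⁻¹ : H) • x = (a : G)⁻¹ • x := rfl
  rw [← hy]
  have h1 := hc a (t (a⁻¹ • x)) x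
  have h2 : ((t x)⁻¹ * (a * t (a⁻¹ • x))) • r x = r x := by
    rw [mul_smul, mul_smul, inv_smul_eq_iff]
    conv_lhs => rw [← hrH a⁻¹ x, ht, smul_inv_smul]
    rw [ht]
  have h3 := hc (t x) ((t x)⁻¹ * (a * t (a⁻¹ • x))) x
  rw [mul_inv_cancel_left, show (t x)⁻¹ • x = r x from inv_smul_eq_iff.2 (ht x).symm, hstab _ _ h2,
    add_zero] at h3
  omega

/-- Permutation lattices are flasque. -/
theorem flasque_of_permutation (h : IsPermutation ρ) : IsFlasque ρ := by
  classical
  obtain ⟨ι, _, _, b, hb⟩ := exists_action h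
  intro H m hm
  haveI : Fintype H := Fintype.ofFinite H
  rw [finsum_eq_sum_of_fintype] at hm
  set S := Submodule.span ℤ {x : M | ∃ (h : H) (y : M), x = ρ (h : G) y - y}
  let r : ι → ι := fun x => (Quotient.mk'' x : MulAction.orbitRel.Quotient H ι).out
  have hr : ∀ x, ∃ t : H, t • r x = x := fun x => by
    have : (MulAction.orbitRel H ι) x (r x) := Quotient.exact (Quotient.out_eq _).symm
    exact this
  choose t ht using hr
  have hbg : ∀ (g : G) (j : ι), ρ g (b j) = b (g • j) := by
    intro g j
    apply b.repr.injective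
    ext i
    rw [hb, Module.Basis.repr_self, Module.Basis.repr_self, Finsupp.single_apply, Finsupp.single_apply]
    exact if_congr eq_inv_smul_iff rfl rfl
  have hdiff : ∀ x, b x - b (r x) ∈ S := fun x =>
    Submodule.subset_span ⟨t x, b (r x), by
      rw [hbg, show ((t x : G)) • r x = x from ht x]⟩
  let c : ι → ℤ := fun i => b.repr m i
  have hsplit : m = (∑ x, c x • (b x - b (r x))) + ∑ x, c x • b (r x) := by
    rw [← Finset.sum_add_distrib]
    conv_lhs => rw [← b.sum_repr m]
    refine Finset.sum_congr rfl fun x _ => ?_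
    rw [← smul_add, sub_add_cancel]
  have hzero : ∑ x, c x • b (r x) = 0 := by
    rw [← Finset.sum_fiberwise_of_maps_to (g := r) (t := Finset.univ) (fun x _ => Finset.mem_univ _)]
    refine Finset.sum_eq_zero fun y _ => ?_
    rw [Finset.sum_congr rfl (fun x hx => by rw [(Finset.mem_filter.1 hx).2] :
      ∀ x ∈ Finset.univ.filter (fun x => r x = y), c x • b (r x) = c x • b y), ← Finset.sum_smul]
    rcases eq_or_ne (∑ x ∈ Finset.univ.filter (fun x => r x = y), c x) 0 with h0 | h0
    · rw [h0, zero_smul]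
    exfalso
    obtain ⟨x₀, hx₀, -⟩ := Finset.exists_ne_zero_of_sum_ne_zero h0
    have hy : r x₀ = y := (Finset.mem_filter.1 hx₀).2
    have h1 : (∑ a : H, c ((a : G)⁻¹ • y)) = 0 := by
      have h := congrArg (fun z => b.repr z y) hm
      simpa [map_sum, hb, c] using h
    rw [← Equiv.sum_comp (Equiv.inv H)] at h1
    have h2 : ∑ a : H, c (a • y) = 0 := by
      simpa [Subgroup.smul_def] using h1
    have himg : ∀ a : H, r (a • y) = y := fun a => by
      rw [← hy]
      exact congrArg Quotient.out ((Quotient.sound (MulAction.mem_orbit (r x₀) a) :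
        (Quotient.mk'' (a • r x₀) : MulAction.orbitRel.Quotient H ι) = Quotient.mk'' (r x₀)).trans
          (Quotient.out_eq _))
    rw [← Finset.sum_fiberwise_of_maps_to (g := fun a : H => a • y)
      (t := Finset.univ.filter (fun x => r x = y))
      (fun a _ => Finset.mem_filter.2 ⟨Finset.mem_univ _, himg a⟩)] at h2
    have h3 : ∀ x ∈ Finset.univ.filter (fun x => r x = y),
        ∑ a ∈ Finset.univ.filter (fun a : H => a • y = x), c (a • y) =
          ((Finset.univ.filter (fun a : H => a • y = y)).card : ℤ) * c x := by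
      intro x hx
      have hxy : r x = y := (Finset.mem_filter.1 hx).2
      rw [Finset.sum_congr rfl (fun a ha => by rw [(Finset.mem_filter.1 ha).2] :
        ∀ a ∈ Finset.univ.filter (fun a : H => a • y = x), c (a • y) = c x), Finset.sum_const, nsmul_eq_mul]
      congr 2
      have htx : t x • y = x := hxy ▸ ht x
      refine Finset.card_equiv (Equiv.mulLeft (t x)⁻¹) fun a => ?_
      simp [mul_smul, inv_smul_eq_iff, htx]
    rw [Finset.sum_congr rfl h3, ← Finset.mul_sum] at h2
    rcases mul_eq_zero.1 h2 with h4 | h4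
    · rw [Nat.cast_eq_zero, Finset.card_eq_zero] at h4
      exact (Finset.eq_empty_iff_forall_notMem.1 h4 1) (by simp)
    · exact h0 h4
  rw [hsplit, hzero, add_zero]
  exact sum_mem fun x _ => Submodule.smul_mem _ _ (hdiff x)

end Permutation

section Dual

variable {M : Type} [AddCommGroup M] (ρ : Representation ℤ G M)

/-- The contragredient. -/
def dual : Representation ℤ G (M →ₗ[ℤ] ℤ) where
  toFun g := LinearMap.lcomp ℤ ℤ (ρ g⁻¹)
  map_one' := by
    ext φ x
    simp
  map_mul' g g' := by
    ext φ x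
    simp

theorem dual_apply (g : G) (φ : M →ₗ[ℤ] ℤ) (x : M) : dual ρ g φ x = φ (ρ g⁻¹ x) := rfl

theorem permutation_dual [Module.Finite ℤ M] (h : IsPermutation ρ) : IsPermutation (dual ρ) := by
  classical
  obtain ⟨ι, _, _, b, hb⟩ := exists_action h
  refine ⟨ι, b.dualBasis, fun g i => ⟨g • i, LinearMap.ext fun x => ?_⟩⟩
  show b.dualBasis i (ρ g⁻¹ x) = b.dualBasis (g • i) x
  rw [Module.Basis.dualBasis_apply, Module.Basis.dualBasis_apply, hb, inv_inv]

variable [Module.Finite ℤ M] [Module.Free ℤ M]

theorem flasque_dual (h : IsCoflasque ρ) : IsFlasque (dual ρ) := by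
  classical
  intro H φ hφ
  haveI : Fintype H := Fintype.ofFinite H
  rw [finsum_eq_sum_of_fintype] at hφ
  let δ : M →ₗ[ℤ] (H → M) := LinearMap.pi fun a => ρ (a : G) - LinearMap.id
  obtain ⟨r, hr1, hr2⟩ := exists_proj (LinearMap.range δ) (fun k c hk hc => by
    obtain ⟨q, hq⟩ := hc
    have hq' : ∀ a : H, k • c a = ρ (a : G) q - q := fun a => (congrFun hq a).symm
    obtain ⟨m, hm⟩ := h H c (fun a a' => smul_right_injective M hk (by
      simp only [smul_add, hq', ← map_smul, map_sub, Subgroup.coe_mul, map_mul, Module.End.mul_apply]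
      abel))
    exact ⟨m, funext fun a => (hm a).symm⟩)
  have hker : ∀ q, δ q = 0 → φ q = 0 := by
    intro q hq
    have hq' : ∀ a : H, ρ (a : G) q = q := fun a => sub_eq_zero.1 (congrFun hq a)
    have h1 := LinearMap.congr_fun hφ q
    rw [LinearMap.sum_apply] at h1
    have h2 : ∀ a : H, dual ρ (a : G) φ q = φ q := fun a => by
      rw [dual_apply, ← Subgroup.coe_inv, hq']
    simp only [h2, Finset.sum_const, LinearMap.zero_apply, nsmul_eq_mul, mul_eq_zero] at h1
    rcases h1 with h1 | h1
    · simp at h1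
    · exact h1
  have hex : ∀ x : (H → M), ∃ q, δ q = r x := fun x => hr1 x
  choose sec hsec using hex
  have huniq : ∀ q q', δ q = δ q' → φ q = φ q' := fun q q' e => by
    rw [← sub_eq_zero, ← map_sub]
    exact hker _ (by rw [map_sub, e, sub_self])
  let Φ : (H → M) →ₗ[ℤ] ℤ :=
    { toFun := fun x => φ (sec x)
      map_add' := fun x y => by
        rw [← map_add]
        exact huniq _ _ (by rw [map_add, hsec, hsec, hsec, map_add])
      map_smul' := fun k x => by
        rw [RingHom.id_apply, ← map_smul]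
        exact huniq _ _ (by rw [map_smul, hsec, hsec, map_smul]) }
  have hΦ : ∀ q, Φ (δ q) = φ q := fun q => huniq _ _ (by rw [hsec, hr2 _ ⟨q, rfl⟩])
  have hsum : φ = ∑ a : H, (dual ρ ((a⁻¹ : H) : G) (Φ ∘ₗ LinearMap.single ℤ (fun _ : H => M) a) -
      (Φ ∘ₗ LinearMap.single ℤ (fun _ : H => M) a)) := by
    ext q
    rw [← hΦ q, LinearMap.sum_apply]
    conv_lhs => rw [← Finset.univ_sum_single (δ q), map_sum]
    refine Finset.sum_congr rfl fun a _ => ?_
    simp [δ, dual_apply, Pi.single_sub, map_sub]
  rw [hsum]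
  exact sum_mem fun a _ => Submodule.subset_span ⟨a⁻¹, _, rfl⟩

theorem coflasque_dual (h : IsFlasque ρ) : IsCoflasque (dual ρ) := by
  classical
  intro H f hf
  haveI : Fintype H := Fintype.ofFinite H
  set S := Submodule.span ℤ {x : M | ∃ (h : H) (y : M), x = ρ (h : G) y - y}
  let n : ℤ := (Fintype.card H : ℤ)
  have hn : n ≠ 0 := by simp [n]
  let F : M →ₗ[ℤ] ℤ := ∑ a : H, f a
  have hkey : ∀ (a : H) (y : M), n * f a y = F y - F (ρ ((a⁻¹ : H) : G) y) := by
    intro a y
    have h1 : ∀ a' : H, f (a * a') y = f a y + f a' (ρ ((a⁻¹ : H) : G) y) := fun a' => by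
      rw [hf]; rfl
    have h2 : F y = ∑ a' : H, f (a * a') y := by
      rw [show F y = ∑ a' : H, f a' y by simp [F]]
      exact (Equiv.sum_comp (Equiv.mulLeft a) fun a' => f a' y).symm
    simp only [h1, Finset.sum_add_distrib, Finset.sum_const, Finset.card_univ, nsmul_eq_mul] at h2
    rw [h2]
    simp [n, F]
  have hdvd : ∀ s ∈ S, n ∣ F s := by
    intro s hs
    induction hs using Submodule.span_induction with
    | mem x hx =>
      obtain ⟨a, y, rfl⟩ := hx
      refine ⟨-f a⁻¹ y, ?_⟩
      have := hkey a⁻¹ y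
      rw [inv_inv] at this
      rw [map_sub, mul_neg, this]
      ring
    | zero => simp
    | add x y _ _ hx hy => rw [map_add]; exact dvd_add hx hy
    | smul k x _ hx => rw [map_smul, smul_eq_mul]; exact dvd_mul_of_dvd_right hx k
  have hS : ∀ x ∈ S, ∑ a : H, ρ (a : G) x = 0 := by
    intro x hx
    induction hx using Submodule.span_induction with
    | mem x hx =>
      obtain ⟨a, y, rfl⟩ := hx
      simp only [map_sub, Finset.sum_sub_distrib, ← Module.End.mul_apply, ← map_mul, ← Subgroup.coe_mul]
      rw [Equiv.sum_comp (Equiv.mulRight a) (fun a' : H => ρ (a' : G) y) |>.symm]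
      simp
    | zero => simp
    | add x y _ _ hx hy => simp only [map_add, Finset.sum_add_distrib, hx, hy, add_zero]
    | smul k x _ hx => simp only [map_smul, ← Finset.smul_sum, hx, smul_zero]
  obtain ⟨r, hr1, hr2⟩ := exists_proj S (fun k x hk hx => h H x (by
    rw [finsum_eq_sum_of_fintype]
    have := hS _ hx
    simp only [map_smul, ← Finset.smul_sum] at this
    exact (smul_eq_zero.1 this).resolve_left hk))
  let m : M →ₗ[ℤ] ℤ :=
    { toFun := fun y => -(F (r y) / n)
      map_add' := fun x y => by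
        rw [map_add, map_add, Int.add_ediv_of_dvd_left (hdvd _ (hr1 x)), neg_add]
      map_smul' := fun k x => by
        simp only [map_smul, smul_eq_mul, RingHom.id_apply, Int.mul_ediv_assoc k (hdvd _ (hr1 x)), mul_neg] }
  refine ⟨m, fun a => LinearMap.ext fun y => ?_⟩
  show f a y = m (ρ ((a : G)⁻¹) y) - m y
  rw [← Subgroup.coe_inv, ← map_sub]
  have hin : ρ ((a⁻¹ : H) : G) y - y ∈ S := Submodule.subset_span ⟨a⁻¹, y, rfl⟩
  show f a y = -(F (r (ρ ((a⁻¹ : H) : G) y - y)) / n)
  rw [hr2 _ hin, map_sub, show F (ρ ((a⁻¹ : H) : G) y) - F y = n * (-f a y) by rw [mul_neg, hkey]; ring,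
    Int.mul_ediv_cancel_left _ hn, neg_neg]

end Dual

end Groth.Agent.GLat52
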