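import Groth.Agent.GLat52.Basic

open GLat

namespace Groth.Agent.GLat52

variable {G : Type} [Group G] [Finite G]

/-- The permutation representation on integer functions. -/
def perm (X : Type) [MulAction G X] : Representation ℤ G (X → ℤ) where
  toFun g := LinearMap.funLeft ℤ ℤ (fun x : X => g⁻¹ • x)
  map_one' := by
    ext f x
    simp [LinearMap.funLeft]
  map_mul' g g' := by
    ext f x
    simp [LinearMap.funLeft, mul_smul]

theorem perm_apply (X : Type) [MulAction G X] (g : G) (f : X → ℤ) (x : X) :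
    perm X g f x = f (g⁻¹ • x) := rfl

theorem perm_single (X : Type) [MulAction G X] [DecidableEq X] (g : G) (x : X) (k : ℤ) :
    perm X g (Pi.single x k) = Pi.single (g • x) k := by
  funext y
  rw [perm_apply, Pi.single_apply, Pi.single_apply]
  exact if_congr inv_smul_eq_iff rfl rfl

theorem isPermutation_perm (X : Type) [MulAction G X] [Finite X] : IsPermutation (perm (G := G) X) := by
  classical
  exact ⟨X, Pi.basisFun ℤ X, fun g i => ⟨g • i, by rw [Pi.basisFun_apply, Pi.basisFun_apply, perm_single]⟩⟩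

/-- The restriction of a representation to a stable subgroup. -/
def subRep {M : Type} [AddCommGroup M] (ρ : Representation ℤ G M) (N : Submodule ℤ M)
    (h : ∀ g, ∀ x ∈ N, ρ g x ∈ N) : Representation ℤ G ↥N where
  toFun g := (ρ g).restrict (h g)
  map_one' := by
    refine LinearMap.ext fun x => Subtype.ext ?_
    simp
  map_mul' g g' := by
    refine LinearMap.ext fun x => Subtype.ext ?_
    simp

theorem exists_coflasque_kernel (A : Type) [AddCommGroup A] [Module.Finite ℤ A] (ρ : Representation ℤ G A) :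
    ∃ (Q : Type) (_ : AddCommGroup Q) (P : Type) (_ : AddCommGroup P)
      (_ : Module.Finite ℤ Q) (_ : Module.Free ℤ Q) (_ : Module.Finite ℤ P) (_ : Module.Free ℤ P)
      (σ : Representation ℤ G Q) (τ : Representation ℤ G P) (i : Q →ₗ[ℤ] P) (π : P →ₗ[ℤ] A),
      IsEquivariant σ τ i ∧ IsEquivariant τ ρ π ∧ Function.Injective i ∧ Function.Surjective π ∧
      LinearMap.range i = LinearMap.ker π ∧ IsPermutation τ ∧ IsCoflasque σ := by
  classical
  let inv : Subgroup G → Submodule ℤ A := fun H => ⨅ h : H, LinearMap.eqLocus (ρ (h : G)) LinearMap.id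
  have hinv : ∀ H a, a ∈ inv H ↔ ∀ h : H, ρ (h : G) a = a := fun H a => by
    simp [inv, Submodule.mem_iInf]
  have hfg : ∀ H, ∃ (n : ℕ) (s : Fin n → A), Submodule.span ℤ (Set.range s) = inv H :=
    fun H => Submodule.fg_iff_exists_fin_generating_family.1 (IsNoetherian.noetherian (inv H))
  choose n s hs using hfg
  let X := Σ H : Subgroup G, Fin (n H) × (G ⧸ H)
  letI : MulAction G X :=
    { smul := fun g x => ⟨x.1, x.2.1, g • x.2.2⟩
      one_smul := fun x => by
        obtain ⟨H, i, q⟩ := x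
        show (⟨H, i, (1 : G) • q⟩ : X) = ⟨H, i, q⟩
        rw [one_smul]
      mul_smul := fun g g' x => by
        obtain ⟨H, i, q⟩ := x
        show (⟨H, i, (g * g') • q⟩ : X) = ⟨H, i, g • g' • q⟩
        rw [mul_smul] }
  haveI : Fintype X := Fintype.ofFinite X
  let v : X → A := fun x => ρ x.2.2.out (s x.1 x.2.1)
  have hv : ∀ (g : G) (H : Subgroup G) (i : Fin (n H)),
      v ⟨H, i, (g : G ⧸ H)⟩ = ρ g (s H i) := by
    intro g H i
    have hi : s H i ∈ inv H := hs H ▸ Submodule.subset_span ⟨i, rfl⟩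
    obtain ⟨h, hh⟩ := QuotientGroup.mk_out_eq_mul H g
    show ρ (g : G ⧸ H).out (s H i) = _
    rw [hh, map_mul, Module.End.mul_apply, (hinv H _).1 hi h]
  have hvg : ∀ (g : G) (x : X), v (g • x) = ρ g (v x) := by
    intro g x
    obtain ⟨H, i, q⟩ := x
    obtain ⟨g', rfl⟩ := QuotientGroup.mk_surjective q
    show v ⟨H, i, g • (g' : G ⧸ H)⟩ = _
    rw [show g • (g' : G ⧸ H) = ((g * g' : G) : G ⧸ H) from rfl, hv, hv, map_mul, Module.End.mul_apply]
  let π : (X → ℤ) →ₗ[ℤ] A := Fintype.linearCombination ℤ v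
  have hπ : ∀ x, π (Pi.single x 1) = v x := fun x => by
    rw [Fintype.linearCombination_apply_single, one_smul]
  have hπg : IsEquivariant (perm X) ρ π := by
    intro g f
    have h : π ∘ₗ perm X g = ρ g ∘ₗ π := by
      refine (Pi.basisFun ℤ X).ext fun x => ?_
      rw [LinearMap.comp_apply, LinearMap.comp_apply, Pi.basisFun_apply, perm_single, hπ, hπ, hvg]
    exact LinearMap.congr_fun h f
  have hfix : ∀ (H : Subgroup G), ∀ a ∈ inv H, ∃ p, (∀ h : H, perm X (h : G) p = p) ∧ π p = a := by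
    intro H a ha
    rw [← hs H] at ha
    induction ha using Submodule.span_induction with
    | mem x hx =>
      obtain ⟨i, rfl⟩ := hx
      refine ⟨Pi.single ⟨H, i, ((1 : G) : G ⧸ H)⟩ 1, fun h => ?_, ?_⟩
      · rw [perm_single]
        congr 1
        show (⟨H, i, (h : G) • ((1 : G) : G ⧸ H)⟩ : X) = _
        congr 2
        exact QuotientGroup.eq.2 (by simp)
      · rw [hπ, hv, map_one]; rfl
    | zero => exact ⟨0, fun h => map_zero _, map_zero π⟩
    | add x y _ _ hx hy =>
      obtain ⟨p, hp, rfl⟩ := hx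
      obtain ⟨p', hp', rfl⟩ := hy
      exact ⟨p + p', fun h => by rw [map_add, hp, hp'], map_add π p p'⟩
    | smul k x _ hx =>
      obtain ⟨p, hp, rfl⟩ := hx
      exact ⟨k • p, fun h => by rw [map_smul, hp], map_smul π k p⟩
  have hstab : ∀ g, ∀ p ∈ LinearMap.ker π, perm X g p ∈ LinearMap.ker π := fun g p hp => by
    rw [LinearMap.mem_ker, hπg, LinearMap.mem_ker.1 hp, map_zero]
  refine ⟨↥(LinearMap.ker π), inferInstance, X → ℤ, inferInstance, inferInstance, inferInstance, inferInstance,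
    inferInstance, subRep (perm X) (LinearMap.ker π) hstab, perm X, (LinearMap.ker π).subtype, π,
    fun g p => rfl, hπg, Subtype.val_injective, fun a => ?_, Submodule.range_subtype _, isPermutation_perm X,
    fun H f hf => ?_⟩
  · obtain ⟨p, -, hp⟩ := hfix ⊥ a ((hinv _ _).2 fun h => by
      rw [Subgroup.mem_bot.1 h.2, map_one]; rfl)
    exact ⟨p, hp⟩
  · obtain ⟨p, hp⟩ := coflasque_of_permutation (isPermutation_perm X) H (fun a => (f a : X → ℤ))
      (fun a b => by rw [hf]; rfl)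
    have hπp : π p ∈ inv H := (hinv H _).2 fun h => by
      have h0 : π (f h : X → ℤ) = 0 := (f h).2
      rw [hp h, map_sub, hπg, sub_eq_zero] at h0
      exact h0
    obtain ⟨p₀, hp₀, hp₀'⟩ := hfix H _ hπp
    refine ⟨⟨p - p₀, by simp [hp₀']⟩, fun a => Subtype.ext ?_⟩
    show (f a : X → ℤ) = perm X (a : G) (p - p₀) - (p - p₀)
    rw [map_sub, hp₀ a, hp a]
    abel

theorem double_dual {A : Type} [AddCommGroup A] [Module.Free ℤ A] [Module.Finite ℤ A]
    (ρ : Representation ℤ G A) :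
    ∃ e : A →ₗ[ℤ] ((A →ₗ[ℤ] ℤ) →ₗ[ℤ] ℤ), Function.Bijective e ∧ IsEquivariant ρ (dual (dual ρ)) e ∧
      ∀ a φ, e a φ = φ a := by
  refine ⟨Module.Dual.eval ℤ A, (Module.evalEquiv ℤ A).bijective, fun g a => ?_, fun a φ => rfl⟩
  refine LinearMap.ext fun φ => ?_
  show φ (ρ g a) = φ (ρ g⁻¹⁻¹ a)
  rw [inv_inv]

theorem exists_embedding_flasque_cokernel (A : Type) [AddCommGroup A] [Module.Finite ℤ A] [Module.Free ℤ A]
    (ρ : Representation ℤ G A) :
    ∃ (P : Type) (_ : AddCommGroup P) (F : Type) (_ : AddCommGroup F)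
      (_ : Module.Finite ℤ P) (_ : Module.Free ℤ P) (_ : Module.Finite ℤ F) (_ : Module.Free ℤ F)
      (σ : Representation ℤ G P) (τ : Representation ℤ G F) (i : A →ₗ[ℤ] P) (π : P →ₗ[ℤ] F),
      IsEquivariant ρ σ i ∧ IsEquivariant σ τ π ∧ Function.Injective i ∧ Function.Surjective π ∧
      LinearMap.range i = LinearMap.ker π ∧ IsPermutation σ ∧ IsFlasque τ := by
  obtain ⟨Q, _, P, _, _, _, _, _, σ, τ, i, π, hi, hπ, hinj, hsurj, hex, hperm, hcof⟩ :=
    exists_coflasque_kernel (G := G) (A →ₗ[ℤ] ℤ) (dual ρ)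
  obtain ⟨e, he, heg, hev⟩ := double_dual ρ
  obtain ⟨sec, hsec⟩ := Module.projective_lifting_property π LinearMap.id hsurj
  have hexact : ∀ p, π p = 0 ↔ ∃ q, i q = p := fun p => by
    rw [← LinearMap.mem_ker, ← hex, LinearMap.mem_range]
  have hretr : ∀ p, ∃ q, i q = p - sec (π p) := fun p => (hexact _).1 (by
    rw [map_sub, show π (sec (π p)) = π p from LinearMap.congr_fun hsec _, sub_self])
  choose r hr using hretr
  let rl : P →ₗ[ℤ] Q :=
    { toFun := r
      map_add' := fun p p' => hinj (by rw [map_add, hr, hr, hr, map_add, map_add]; abel)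
      map_smul' := fun k p => hinj (by rw [RingHom.id_apply, map_smul, hr, hr, map_smul, map_smul, smul_sub]) }
  have hrl : ∀ q, rl (i q) = q := fun q => hinj (by
    show i (r (i q)) = i q
    rw [hr, (hexact _).2 ⟨q, rfl⟩, map_zero, sub_zero])
  refine ⟨P →ₗ[ℤ] ℤ, inferInstance, Q →ₗ[ℤ] ℤ, inferInstance, inferInstance, inferInstance, inferInstance,
    inferInstance, dual τ, dual σ, π.dualMap ∘ₗ e, i.dualMap, ?_, ?_, ?_, ?_, ?_, permutation_dual τ hperm,
    flasque_dual σ hcof⟩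
  · intro g a
    refine LinearMap.ext fun p => ?_
    show e (ρ g a) (π p) = e a (π (τ g⁻¹ p))
    rw [hπ, heg]
    rfl
  · intro g φ
    refine LinearMap.ext fun q => ?_
    show φ (τ g⁻¹ (i q)) = φ (i (σ g⁻¹ q))
    rw [hi]
  · exact (LinearMap.dualMap_injective_of_surjective hsurj).comp he.1
  · intro ψ
    exact ⟨ψ ∘ₗ rl, LinearMap.ext fun q => congrArg ψ (hrl q)⟩
  · apply le_antisymm
    · rintro _ ⟨a, rfl⟩
      refine LinearMap.mem_ker.2 (LinearMap.ext fun q => ?_)
      show e a (π (i q)) = 0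
      rw [(hexact _).2 ⟨q, rfl⟩, map_zero]
    · intro ψ hψ
      obtain ⟨a, ha⟩ := he.2 (ψ ∘ₗ sec)
      refine ⟨a, LinearMap.ext fun p => ?_⟩
      show e a (π p) = ψ p
      rw [ha]
      have h0 : ψ (i (r p)) = 0 := LinearMap.congr_fun (LinearMap.mem_ker.1 hψ) (r p)
      rw [hr, map_sub, sub_eq_zero] at h0
      exact h0.symm

theorem exists_flasque_cover (A : Type) [AddCommGroup A] [Module.Finite ℤ A] (ρ : Representation ℤ G A) :
    ∃ (P : Type) (_ : AddCommGroup P) (F : Type) (_ : AddCommGroup F)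
      (_ : Module.Finite ℤ P) (_ : Module.Free ℤ P) (_ : Module.Finite ℤ F) (_ : Module.Free ℤ F)
      (σ : Representation ℤ G P) (τ : Representation ℤ G F) (i : P →ₗ[ℤ] F) (π : F →ₗ[ℤ] A),
      IsEquivariant σ τ i ∧ IsEquivariant τ ρ π ∧ Function.Injective i ∧ Function.Surjective π ∧
      LinearMap.range i = LinearMap.ker π ∧ IsPermutation σ ∧ IsFlasque τ := by
  classical
  obtain ⟨Q, _, P₀, _, _, _, _, _, σQ, τ₀, j, π₀, hj, hπ₀, hjinj, hπsurj, hjex, hperm₀, -⟩ :=
    exists_coflasque_kernel (G := G) A ρ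
  obtain ⟨P, _, F', _, _, _, _, _, σ, τ', i, θ, hi, hθ, hiinj, hθsurj, hiex, hperm, hfl⟩ :=
    exists_embedding_flasque_cokernel (G := G) Q σQ
  let d : Q →ₗ[ℤ] P₀ × P := j.prod (-i)
  let E := (P₀ × P) ⧸ LinearMap.range d
  let ρE : G → (E →ₗ[ℤ] E) := fun g =>
    Submodule.mapQ _ _ ((τ₀ g).prodMap (σ g)) (by
      rintro _ ⟨q, rfl⟩
      refine ⟨σQ g q, ?_⟩
      simp [d, hj g q, hi g q])
  have hρE : ∀ g x, ρE g (Submodule.Quotient.mk x) = Submodule.Quotient.mk (τ₀ g x.1, σ g x.2) :=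
    fun g x => rfl
  let τE : Representation ℤ G E :=
    { toFun := ρE
      map_one' := Submodule.linearMap_qext _ (LinearMap.ext fun x => by
        show ρE 1 (Submodule.Quotient.mk x) = Submodule.Quotient.mk x
        rw [hρE, map_one, map_one]; rfl)
      map_mul' := fun g g' => Submodule.linearMap_qext _ (LinearMap.ext fun x => by
        show ρE (g * g') (Submodule.Quotient.mk x) = ρE g (ρE g' (Submodule.Quotient.mk x))
        rw [hρE, hρE, hρE, map_mul, map_mul]; rfl) }
  let iP : P →ₗ[ℤ] E := (LinearMap.range d).mkQ ∘ₗ LinearMap.inr ℤ P₀ P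
  let iP₀ : P₀ →ₗ[ℤ] E := (LinearMap.range d).mkQ ∘ₗ LinearMap.inl ℤ P₀ P
  have hiP₀inj : Function.Injective iP₀ := by
    rw [injective_iff_map_eq_zero]
    intro x hx
    obtain ⟨q, hq⟩ := (Submodule.Quotient.mk_eq_zero _).1 hx
    have h2 : -i q = 0 := congrArg Prod.snd hq
    rw [neg_eq_zero, ← map_zero i] at h2
    rw [← show j q = x from congrArg Prod.fst hq, hiinj h2, map_zero]
  let π : E →ₗ[ℤ] A := Submodule.liftQ _ (π₀ ∘ₗ LinearMap.fst ℤ P₀ P) (by
    rintro _ ⟨q, rfl⟩
    show π₀ (j q) = 0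
    exact LinearMap.mem_ker.1 (hjex ▸ LinearMap.mem_range_self j q))
  let qE : E →ₗ[ℤ] F' := Submodule.liftQ _ (θ ∘ₗ LinearMap.snd ℤ P₀ P) (by
    rintro _ ⟨q, rfl⟩
    show θ (-i q) = 0
    rw [map_neg, LinearMap.mem_ker.1 (hiex ▸ LinearMap.mem_range_self i q), neg_zero])
  have hkerq : ∀ e, qE e = 0 → ∃ x, iP₀ x = e := by
    intro e he
    obtain ⟨⟨x, y⟩, rfl⟩ := Submodule.Quotient.mk_surjective _ e
    have hy : y ∈ LinearMap.range i := hiex ▸ LinearMap.mem_ker.2 he
    obtain ⟨q, rfl⟩ := hy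
    refine ⟨x + j q, (Submodule.Quotient.eq _).2 ⟨q, ?_⟩⟩
    simp [d]
  haveI : Module.IsTorsionFree ℤ E := by
    refine Module.isTorsionFree_iff_smul_eq_zero.2 fun k e hk => ?_
    by_cases hk0 : k = 0
    · exact Or.inl hk0
    refine Or.inr ?_
    have h1 := congrArg qE hk
    rw [map_smul, map_zero] at h1
    obtain ⟨x, rfl⟩ := hkerq e ((smul_eq_zero.1 h1).resolve_left hk0)
    rw [← map_smul, ← map_zero iP₀] at hk
    rw [(smul_eq_zero.1 (hiP₀inj hk)).resolve_left hk0, map_zero]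
  haveI : Module.Free ℤ E := Module.free_of_finite_type_torsion_free'
  refine ⟨P, inferInstance, E, inferInstance, inferInstance, inferInstance, inferInstance, inferInstance,
    σ, τE, iP, π, ?_, ?_, ?_, ?_, ?_, hperm, ?_⟩
  · intro g y
    show Submodule.Quotient.mk (0, σ g y) = ρE g (Submodule.Quotient.mk (0, y))
    rw [hρE, map_zero]
  · intro g e
    obtain ⟨x, rfl⟩ := Submodule.Quotient.mk_surjective _ e
    show π (ρE g (Submodule.Quotient.mk x)) = _
    rw [hρE]
    exact hπ₀ g x.1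
  · rw [injective_iff_map_eq_zero]
    intro y hy
    obtain ⟨q, hq⟩ := (Submodule.Quotient.mk_eq_zero _).1 hy
    have h1 : j q = 0 := congrArg Prod.fst hq
    rw [← map_zero j] at h1
    rw [← show -i q = y from congrArg Prod.snd hq, hjinj h1, map_zero, neg_zero]
  · intro a
    obtain ⟨x, rfl⟩ := hπsurj a
    exact ⟨iP₀ x, rfl⟩
  · apply le_antisymm
    · rintro _ ⟨y, rfl⟩
      exact LinearMap.mem_ker.2 (map_zero π₀)
    · intro e he
      obtain ⟨⟨x, y⟩, rfl⟩ := Submodule.Quotient.mk_surjective _ e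
      have hx : x ∈ LinearMap.range j := hjex ▸ LinearMap.mem_ker.2 (LinearMap.mem_ker.1 he)
      obtain ⟨q, rfl⟩ := hx
      refine ⟨y + i q, (Submodule.Quotient.eq _).2 ⟨-q, ?_⟩⟩
      simp [d]
  · intro H e he
    haveI : Fintype H := Fintype.ofFinite H
    rw [finsum_eq_sum_of_fintype] at he
    have hqE : ∀ (g : G) e, qE (τE g e) = τ' g (qE e) := by
      intro g e
      obtain ⟨x, rfl⟩ := Submodule.Quotient.mk_surjective _ e
      show qE (ρE g (Submodule.Quotient.mk x)) = _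
      rw [hρE]
      exact hθ g x.2
    have hiP₀g : ∀ (g : G) x, iP₀ (τ₀ g x) = τE g (iP₀ x) := by
      intro g x
      show Submodule.Quotient.mk (τ₀ g x, (0 : P)) = ρE g (Submodule.Quotient.mk (x, 0))
      rw [hρE, map_zero]
    have h1 := hfl H (qE e) (by
      rw [finsum_eq_sum_of_fintype]
      simp only [← hqE, ← map_sum, he, map_zero])
    set S := Submodule.span ℤ {x : E | ∃ (h : H) (y : E), x = τE (h : G) y - y}
    have hle : Submodule.span ℤ {x : F' | ∃ (h : H) (y : F'), x = τ' (h : G) y - y} ≤ S.map qE := by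
      rw [Submodule.span_le]
      rintro _ ⟨h, y, rfl⟩
      obtain ⟨y', rfl⟩ := hθsurj y
      refine ⟨τE (h : G) (iP y') - iP y', Submodule.subset_span ⟨h, iP y', rfl⟩, ?_⟩
      rw [map_sub, hqE]
      rfl
    obtain ⟨e', he', hee'⟩ := hle h1
    obtain ⟨x, hx⟩ := hkerq (e - e') (by rw [map_sub, hee', sub_self])
    have hN : ∀ s ∈ S, ∑ h : H, τE (h : G) s = 0 := by
      intro s hs
      induction hs using Submodule.span_induction with
      | mem s hs =>
        obtain ⟨a, y, rfl⟩ := hs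
        simp only [map_sub, Finset.sum_sub_distrib, ← Module.End.mul_apply, ← map_mul, ← Subgroup.coe_mul]
        rw [(Equiv.sum_comp (Equiv.mulRight a) (fun a' : H => τE (a' : G) y)).symm]
        simp
      | zero => simp
      | add s t _ _ hs ht => simp only [map_add, Finset.sum_add_distrib, hs, ht, add_zero]
      | smul k s _ hs => simp only [map_smul, ← Finset.smul_sum, hs, smul_zero]
    have hx0 : ∑ h : H, τ₀ (h : G) x = 0 := hiP₀inj (by
      rw [map_sum, map_zero]
      simp only [hiP₀g, hx, map_sub, Finset.sum_sub_distrib, he, hN e' he', sub_zero])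
    have h2 := flasque_of_permutation hperm₀ H x (by rw [finsum_eq_sum_of_fintype]; exact hx0)
    have h3 : iP₀ x ∈ S := by
      have hle' : Submodule.span ℤ {x : P₀ | ∃ (h : H) (y : P₀), x = τ₀ (h : G) y - y} ≤ S.comap iP₀ := by
        rw [Submodule.span_le]
        rintro _ ⟨h, y, rfl⟩
        exact Submodule.subset_span ⟨h, iP₀ y, by rw [map_sub, hiP₀g]⟩
      exact hle' h2
    rw [hx] at h3
    simpa using add_mem h3 he'

theorem exists_embedding_coflasque (A : Type) [AddCommGroup A] [Module.Finite ℤ A] [Module.Free ℤ A]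
    (ρ : Representation ℤ G A) :
    ∃ (Q : Type) (_ : AddCommGroup Q) (P : Type) (_ : AddCommGroup P)
      (_ : Module.Finite ℤ Q) (_ : Module.Free ℤ Q) (_ : Module.Finite ℤ P) (_ : Module.Free ℤ P)
      (σ : Representation ℤ G Q) (τ : Representation ℤ G P) (i : A →ₗ[ℤ] Q) (π : Q →ₗ[ℤ] P),
      IsEquivariant ρ σ i ∧ IsEquivariant σ τ π ∧ Function.Injective i ∧ Function.Surjective π ∧
      LinearMap.range i = LinearMap.ker π ∧ IsCoflasque σ ∧ IsPermutation τ := by
  obtain ⟨P, _, F, _, _, _, _, _, σ, τ, i, π, hi, hπ, hinj, hsurj, hex, hperm, hfl⟩ :=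
    exists_flasque_cover (G := G) (A →ₗ[ℤ] ℤ) (dual ρ)
  obtain ⟨e, he, heg, hev⟩ := double_dual ρ
  obtain ⟨sec, hsec⟩ := Module.projective_lifting_property π LinearMap.id hsurj
  have hexact : ∀ p, π p = 0 ↔ ∃ q, i q = p := fun p => by
    rw [← LinearMap.mem_ker, ← hex, LinearMap.mem_range]
  have hretr : ∀ p, ∃ q, i q = p - sec (π p) := fun p => (hexact _).1 (by
    rw [map_sub, show π (sec (π p)) = π p from LinearMap.congr_fun hsec _, sub_self])
  choose r hr using hretr
  let rl : F →ₗ[ℤ] P :=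
    { toFun := r
      map_add' := fun p p' => hinj (by rw [map_add, hr, hr, hr, map_add, map_add]; abel)
      map_smul' := fun k p => hinj (by rw [RingHom.id_apply, map_smul, hr, hr, map_smul, map_smul, smul_sub]) }
  have hrl : ∀ q, rl (i q) = q := fun q => hinj (by
    show i (r (i q)) = i q
    rw [hr, (hexact _).2 ⟨q, rfl⟩, map_zero, sub_zero])
  refine ⟨F →ₗ[ℤ] ℤ, inferInstance, P →ₗ[ℤ] ℤ, inferInstance, inferInstance, inferInstance, inferInstance,
    inferInstance, dual τ, dual σ, π.dualMap ∘ₗ e, i.dualMap, ?_, ?_, ?_, ?_, ?_, coflasque_dual τ hfl,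
    permutation_dual σ hperm⟩
  · intro g a
    refine LinearMap.ext fun p => ?_
    show e (ρ g a) (π p) = e a (π (τ g⁻¹ p))
    rw [hπ, heg]
    rfl
  · intro g φ
    refine LinearMap.ext fun q => ?_
    show φ (τ g⁻¹ (i q)) = φ (i (σ g⁻¹ q))
    rw [hi]
  · exact (LinearMap.dualMap_injective_of_surjective hsurj).comp he.1
  · intro ψ
    exact ⟨ψ ∘ₗ rl, LinearMap.ext fun q => congrArg ψ (hrl q)⟩
  · apply le_antisymm
    · rintro _ ⟨a, rfl⟩
      refine LinearMap.mem_ker.2 (LinearMap.ext fun q => ?_)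
      show e a (π (i q)) = 0
      rw [(hexact _).2 ⟨q, rfl⟩, map_zero]
    · intro ψ hψ
      obtain ⟨a, ha⟩ := he.2 (ψ ∘ₗ sec)
      refine ⟨a, LinearMap.ext fun p => ?_⟩
      show e a (π p) = ψ p
      rw [ha]
      have h0 : ψ (i (r p)) = 0 := LinearMap.congr_fun (LinearMap.mem_ker.1 hψ) (r p)
      rw [hr, map_sub, sub_eq_zero] at h0
      exact h0.symm

end Groth.Agent.GLat52
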